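import Mathlib

/-!
# Bounded retractions onto an intermediate field of height one

For a purely inseparable extension `L/K` of degree `p` the subfield `L^p` of `K` has a semilinear retraction
which is bounded on a base ring with enough `p`-inverse-linear functionals.
-/

set_option autoImplicit false
set_option linter.style.haveILetI false
set_option linter.unusedSectionVars false
set_option maxHeartbeats 400000

universe u

open Finset

noncomputable section

namespace Groth.Agent.PInsep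

variable {A : Type u} [CommRing A] [IsDomain A] (K : Type u) [Field K] [Algebra A K] [IsFractionRing A K]

/-- Extension of a `p`-inverse-linear map to the fraction field. -/
theorem exists_extend (p : ℕ) (hp : 0 < p) (ψ : A →+ A) (hψ : ∀ g y, ψ (g ^ p * y) = g * ψ y) :
    ∃ Ψ : K →+ K, (∀ c x, Ψ (c ^ p * x) = c * Ψ x) ∧ ∀ r, Ψ (algebraMap A K r) = algebraMap A K (ψ r) := by
  classical
  obtain ⟨m, rfl⟩ : ∃ m, p = m + 1 := ⟨p - 1, by omega⟩
  have hrep : ∀ x : K, ∃ u s : A, s ≠ 0 ∧ x * algebraMap A K s = algebraMap A K u := fun x => by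
    obtain ⟨u, s, hs, rfl⟩ := IsFractionRing.div_surjective (A := A) x
    exact ⟨u, s, nonZeroDivisors.ne_zero hs, div_mul_cancel₀ _
      ((map_ne_zero_iff _ (IsFractionRing.injective A K)).2 (nonZeroDivisors.ne_zero hs))⟩
  choose u s hs hx using hrep
  let F : K → K := fun x => algebraMap A K (ψ (u x * s x ^ m)) / algebraMap A K (s x)
  have hs' : ∀ {t : A}, t ≠ 0 → algebraMap A K t ≠ 0 := fun ht =>
    (map_ne_zero_iff _ (IsFractionRing.injective A K)).2 ht
  have hF : ∀ (x : K) (v t : A), t ≠ 0 → x * algebraMap A K t = algebraMap A K v →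
      F x = algebraMap A K (ψ (v * t ^ m)) / algebraMap A K t := fun x v t ht hv => by
    show _ / _ = _
    rw [div_eq_div_iff (hs' (hs x)) (hs' ht), ← map_mul, ← map_mul]
    congr 1
    rw [mul_comm, mul_comm (ψ _) (s x), ← hψ, ← hψ]
    congr 1
    have e : u x * t = v * s x := IsFractionRing.injective A K (by rw [map_mul, map_mul, ← hx x, ← hv]; ring)
    rw [pow_succ, pow_succ]
    linear_combination t ^ m * s x ^ m * e
  refine ⟨AddMonoidHom.mk' F fun x y => ?_, fun c x => ?_, fun r => ?_⟩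
  · rw [hF (x + y) (u x * s y + u y * s x) (s x * s y) (mul_ne_zero (hs x) (hs y))
      (by rw [map_mul, map_add, map_mul, map_mul, ← hx x, ← hx y]; ring)]
    show _ = _ / _ + _ / _
    rw [div_add_div _ _ (hs' (hs x)) (hs' (hs y)), ← map_mul (algebraMap A K), ← map_mul (algebraMap A K),
      ← map_mul (algebraMap A K), ← map_add (algebraMap A K)]
    congr 2
    rw [show (u x * s y + u y * s x) * (s x * s y) ^ m = s y ^ (m + 1) * (u x * s x ^ m) + s x ^ (m + 1) * (u y * s y ^ m)
      by rw [pow_succ, pow_succ, mul_pow]; ring, map_add, hψ, hψ]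
    ring
  · show F (c ^ (m + 1) * x) = c * F x
    obtain ⟨v, t, ht, hc⟩ : ∃ v t : A, t ≠ 0 ∧ c * algebraMap A K t = algebraMap A K v := ⟨u c, s c, hs c, hx c⟩
    rw [hF (c ^ (m + 1) * x) (v ^ (m + 1) * u x) (t ^ (m + 1) * s x) (mul_ne_zero (pow_ne_zero _ ht) (hs x))
      (by rw [map_mul, map_mul, map_pow, map_pow, ← hc, ← hx x]; ring)]
    rw [show v ^ (m + 1) * u x * (t ^ (m + 1) * s x) ^ m = (v * t ^ m) ^ (m + 1) * (u x * s x ^ m) by
      rw [mul_pow, mul_pow, ← pow_mul, ← pow_mul]; ring, hψ]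
    show _ = c * (_ / _)
    simp only [map_mul (algebraMap A K), map_pow (algebraMap A K), ← hc, pow_succ]
    have h1 := hs' ht
    have h2 := hs' (hs x)
    field_simp
  · show F (algebraMap A K r) = _
    rw [hF _ r 1 one_ne_zero (by rw [map_one, mul_one]), one_pow, mul_one, map_one, div_one]

variable {B : Type u} [CommRing B] {L : Type u} [Field L] (j : B →+* L) (i : A →+* B) (f : K →+* L)
  (σ : L →+* K) (τ : B →+* A)

/-- A bounded semilinear retraction onto the image of `σ`. -/
theorem exists_retraction (p : ℕ) [Fact p.Prime] [CharP K p]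
    (hσ : ∀ c : K, σ (f c) = c ^ p) (hτ : ∀ r : A, τ (i r) = r ^ p)
    (hστ : ∀ b : B, σ (j b) = algebraMap A K (τ b)) (hfi : ∀ r : A, f (algebraMap A K r) = j (i r))
    {y : B} (hspan : ∀ z : L, ∃ c : Fin p → K, z = ∑ k, f (c k) * j y ^ (k : ℕ))
    (hind : ∀ c : Fin p → K, ∑ k, f (c k) * j y ^ (k : ℕ) = 0 → c = 0)
    (hfun : ∀ x : A, x ≠ 0 → ∃ ψ : A →+ A, (∀ g w, ψ (g ^ p * w) = g * ψ w) ∧ ψ x ≠ 0) :
    ∃ (D : A) (π : K →+ K), D ≠ 0 ∧ (∀ z, π (σ z) = σ z) ∧ (∀ c x, π (c ^ p * x) = c ^ p * π x) ∧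
      ∀ r : A, ∃ e : B, algebraMap A K (D ^ p) * π (algebraMap A K r) = algebraMap A K (τ e) := by
  classical
  have hpp : p.Prime := Fact.out
  haveI : ExpChar K p := ExpChar.prime hpp
  set a := τ y
  let Λ := {ψ : A →+ A // ∀ g w, ψ (g ^ p * w) = g * ψ w}
  let v : Λ → Fin p → K := fun ψ k => algebraMap A K (ψ.1 (a ^ (k : ℕ)))
  have htop : Submodule.span K (Set.range v) = ⊤ := by
    by_contra hne
    obtain ⟨φ, hφ0, hle⟩ := Submodule.exists_le_ker_of_lt_top _ (lt_top_iff_ne_top.2 hne)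
    let lam : Fin p → K := fun k => φ (Pi.single k 1)
    have hφ : ∀ w : Fin p → K, φ w = ∑ k, w k * lam k := fun w => by
      conv_lhs => rw [pi_eq_sum_univ' w]
      rw [map_sum]
      exact Finset.sum_congr rfl fun k _ => by rw [map_smul, smul_eq_mul]
    obtain ⟨⟨N, hN⟩, hmul⟩ := IsLocalization.exist_integer_multiples (nonZeroDivisors A) Finset.univ lam
    choose μ hμ using fun k => hmul k (Finset.mem_univ k)
    have hN0 : algebraMap A K N ≠ 0 :=
      (map_ne_zero_iff _ (IsFractionRing.injective A K)).2 (nonZeroDivisors.ne_zero hN)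
    have hμ' : ∀ k, algebraMap A K (μ k) = algebraMap A K N * lam k := fun k => by
      rw [hμ k, Algebra.smul_def]
    have hzero : ∑ k : Fin p, μ k ^ p * a ^ (k : ℕ) = 0 := by
      by_contra h0
      obtain ⟨ψ, hψ, hψ0⟩ := hfun _ h0
      refine hψ0 (IsFractionRing.injective A K ?_)
      rw [map_sum, map_sum, map_zero]
      have hker : φ (v ⟨ψ, hψ⟩) = 0 := hle (Submodule.subset_span ⟨⟨ψ, hψ⟩, rfl⟩)
      rw [hφ] at hker
      calc ∑ k : Fin p, algebraMap A K (ψ (μ k ^ p * a ^ (k : ℕ)))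
          = algebraMap A K N * ∑ k, v ⟨ψ, hψ⟩ k * lam k := by
            rw [Finset.mul_sum]
            exact Finset.sum_congr rfl fun k _ => by rw [hψ, map_mul, hμ' k]; ring
        _ = 0 := by rw [hker, mul_zero]
    have hc := hind (fun k => algebraMap A K (μ k)) (σ.injective (by
      rw [map_sum, map_zero, ← map_zero (algebraMap A K), ← hzero, map_sum]
      exact Finset.sum_congr rfl fun k _ => by rw [map_mul, map_pow σ, hσ, hστ, map_mul, map_pow, map_pow]))
    refine hφ0 (LinearMap.ext fun w => ?_)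
    rw [hφ, LinearMap.zero_apply]
    refine Finset.sum_eq_zero fun k _ => ?_
    have hk : algebraMap A K (μ k) = 0 := congrFun hc k
    rw [hμ' k, mul_eq_zero] at hk
    rw [hk.resolve_left hN0, mul_zero]
  let last : Fin p := ⟨p - 1, by have := hpp.pos; omega⟩
  obtain ⟨coef, hcoef⟩ := Finsupp.mem_span_range_iff_exists_finsupp.1
    (htop ▸ Submodule.mem_top : Pi.single last (1 : K) ∈ Submodule.span K (Set.range v))
  choose Ψ hΨ hΨι using fun ψ : Λ => exists_extend K p hpp.pos ψ.1 ψ.2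
  let Φ : K →+ K := ∑ ψ ∈ coef.support, (AddMonoidHom.mulLeft (coef ψ)).comp (Ψ ψ)
  have hΦ : ∀ x, Φ x = ∑ ψ ∈ coef.support, coef ψ * Ψ ψ x := fun x => by simp [Φ]
  have hΦlin : ∀ c x, Φ (c ^ p * x) = c * Φ x := fun c x => by
    rw [hΦ, hΦ, Finset.mul_sum]
    exact Finset.sum_congr rfl fun ψ _ => by rw [hΨ]; ring
  have hΦpow : ∀ k : Fin p, Φ (algebraMap A K a ^ (k : ℕ)) = if k = last then 1 else 0 := fun k => by
    rw [← Pi.single_apply last (1 : K) k, ← hcoef, hΦ, Finsupp.sum, Finset.sum_apply]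
    exact Finset.sum_congr rfl fun ψ _ => by rw [← map_pow, hΨι, Pi.smul_apply, smul_eq_mul]
  set α := algebraMap A K a
  let π : K →+ K := ∑ k : Fin p, (AddMonoidHom.mulLeft (α ^ (k : ℕ))).comp
    ((frobenius K p).toAddMonoidHom.comp (Φ.comp (AddMonoidHom.mulLeft (α ^ (p - 1 - (k : ℕ))))))
  have hπ : ∀ x, π x = ∑ k : Fin p, α ^ (k : ℕ) * (Φ (α ^ (p - 1 - (k : ℕ)) * x)) ^ p := fun x => by
    simp [π, frobenius_def]
  have hlin : ∀ c x, π (c ^ p * x) = c ^ p * π x := fun c x => by
    rw [hπ, hπ, Finset.mul_sum]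
    refine Finset.sum_congr rfl fun k _ => ?_
    rw [mul_left_comm (α ^ _) (c ^ p) x, hΦlin, mul_pow]
    ring
  -- powers of the element
  have hαexp : α = σ (j y) := (hστ y).symm
  have hfix0 : ∀ k : Fin p, π (α ^ (k : ℕ)) = α ^ (k : ℕ) := fun k => by
    rw [hπ, Finset.sum_eq_single k]
    · rw [← pow_add, show p - 1 - (k : ℕ) + k = (last : ℕ) by show _ = p - 1; omega, hΦpow, if_pos rfl, one_pow,
        mul_one]
    · intro l _ hl
      rw [← pow_add]
      have hl' : (l : ℕ) ≠ k := fun h => hl (Fin.ext h)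
      have h0 : Φ (α ^ (p - 1 - (l : ℕ) + k)) = 0 := by
        by_cases hlt : p - 1 - (l : ℕ) + k < p
        · rw [show p - 1 - (l : ℕ) + k = ((⟨_, hlt⟩ : Fin p) : ℕ) from rfl, hΦpow, if_neg]
          intro h
          have := congrArg Fin.val h
          simp only [last] at this
          have := l.2
          omega
        · have hm : p - 1 - (l : ℕ) + k - p < p := by have := k.2; omega
          rw [show α ^ (p - 1 - (l : ℕ) + k) = α ^ p * α ^ (p - 1 - (l : ℕ) + k - p) by
            rw [← pow_add]; congr 1; omega, hΦlin,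
            show p - 1 - (l : ℕ) + k - p = ((⟨_, hm⟩ : Fin p) : ℕ) from rfl, hΦpow, if_neg, mul_zero]
          intro h
          have := congrArg Fin.val h
          simp only [last] at this
          have := k.2
          omega
      rw [h0, zero_pow hpp.ne_zero, mul_zero]
    · exact fun h => absurd (Finset.mem_univ k) h
  have hfix : ∀ z, π (σ z) = σ z := fun z => by
    obtain ⟨c, rfl⟩ := hspan z
    rw [map_sum σ, map_sum π]
    refine Finset.sum_congr rfl fun k _ => ?_
    rw [map_mul σ, map_pow σ, hσ, ← hαexp, hlin, hfix0]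
  -- denominators
  obtain ⟨⟨D, hD⟩, hDmul⟩ := IsLocalization.exist_integer_multiples (nonZeroDivisors A) coef.support coef
  refine ⟨D, π, nonZeroDivisors.ne_zero hD, hfix, hlin, fun r => ?_⟩
  have hint : ∀ x : A, ∃ w : A, algebraMap A K D * Φ (algebraMap A K x) = algebraMap A K w := fun x => by
    have h1 : ∀ ψ ∈ coef.support, ∃ w : A, algebraMap A K D * (coef ψ * Ψ ψ (algebraMap A K x)) = algebraMap A K w :=
      fun ψ hψ => by
        obtain ⟨w, hw⟩ := hDmul ψ hψ
        exact ⟨w * ψ.1 x, by rw [map_mul, hw, Algebra.smul_def, hΨι]; ring⟩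
    choose! w hw using h1
    exact ⟨∑ ψ ∈ coef.support, w ψ, by rw [map_sum, hΦ, Finset.mul_sum]; exact Finset.sum_congr rfl hw⟩
  choose w hw using hint
  refine ⟨∑ k : Fin p, y ^ (k : ℕ) * i (w (a ^ (p - 1 - (k : ℕ)) * r)), ?_⟩
  rw [hπ, map_sum τ, map_sum (algebraMap A K), Finset.mul_sum]
  refine Finset.sum_congr rfl fun k _ => ?_
  simp only [map_mul τ, map_pow τ, hτ, map_mul (algebraMap A K), map_pow (algebraMap A K), ← hw, mul_pow]
  ring

end Groth.Agent.PInsep
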