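import Mathlib
import Groth.Agent.PInsep.Retract
import Groth.Agent.LunaFT.Complete
import Groth.Agent.WQ7.Galois

/-!
# Bounded obstruction module of a purely inseparable extension of degree `p`

Elements of `K` which lie in `A_P + L^p` at every prime of height at most one are, modulo `A + L^p`, detected in a
fixed quotient of finite length.
-/

set_option autoImplicit false
set_option linter.style.haveILetI false
set_option linter.unusedSectionVars false
set_option maxHeartbeats 400000

universe u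

open IsLocalRing

noncomputable section

namespace Groth.Agent.PInsep

variable {A B : Type u} [CommRing A] [IsDomain A] [IsLocalRing A] [IsNoetherianRing A] [IsIntegrallyClosed A]
  [CommRing B] [Algebra A B] [Module.Finite A B] {K L : Type u} [Field K] [Algebra A K] [IsFractionRing A K]
  [Field L] [Algebra B L] (σ : L →+* K) (τ : B →+* A)

/-- Being locally a base element plus an element of the image in codimension at most one. -/
def Good (k : K) : Prop :=
  ∀ (P : Ideal A) [P.IsPrime], P.height ≤ 1 →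
    ∃ (u s : A) (_ : s ∉ P) (z : L), k = algebraMap A K u / algebraMap A K s + σ z

/-- The value of an element in the finite obstruction module. -/
def Val (d c : A) (n : ℕ) (k : K) (b : B) : Prop :=
  ∃ (α : A) (z : L), algebraMap A K d * k = algebraMap A K α + σ z ∧ ∃ a, c ^ n * α = τ b + d * a

theorem prime_eq_max_of_mem (hht : (maximalIdeal A).height = 2) {d c : A} (hd : d ≠ 0)
    (hc : ∀ P ∈ (Ideal.span {d}).minimalPrimes, c ∉ P) (q : Ideal A) [q.IsPrime] (hdq : d ∈ q) (hcq : c ∈ q) :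
    q = maximalIdeal A := by
  by_contra hne
  obtain ⟨P, hP, hPle⟩ := Ideal.exists_minimalPrimes_le (J := q) ((Ideal.span_singleton_le_iff_mem _).2 hdq)
  haveI := hP.1.1
  rcases hPle.lt_or_eq with hlt | heq
  · have hlt2 : q < maximalIdeal A := lt_of_le_of_ne (le_maximalIdeal (Ideal.IsPrime.ne_top ‹_›)) hne
    have s1 := Ideal.height_strict_mono_of_isPrime_of_isPrime hlt
    have s2 := Ideal.height_strict_mono_of_isPrime_of_isPrime hlt2
    rw [hht] at s2
    have h3 : q.height ≤ 1 := Order.le_of_lt_add_one (s2.trans_eq one_add_one_eq_two.symm)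
    have hPne : P ≠ ⊥ := fun h => hd (by simpa [h] using hP.1.2 (Ideal.subset_span rfl : d ∈ Ideal.span {d}))
    exact hPne (Ideal.height_eq_zero_iff_eq_bot.1 (Order.lt_one_iff.1 (s1.trans_le h3)))
  · exact hc P hP (heq ▸ hcq)

theorem regular_mod (hht : (maximalIdeal A).height = 2) {d c : A} (hd : d ≠ 0)
    (hc : ∀ P ∈ (Ideal.span {d}).minimalPrimes, c ∉ P) {x : A} (h : d ∣ c * x) : d ∣ x := by
  refine WQ7.dvd_of_height_le_one hd fun q hq hq1 => ?_
  haveI := hq
  by_cases hdq : d ∈ q
  · refine ⟨c, fun hcq => ?_, h⟩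
    rw [prime_eq_max_of_mem hht hd hc q hdq hcq, hht] at hq1
    exact absurd hq1 (by decide)
  · exact ⟨d, hdq, dvd_mul_right d x⟩

variable [IsAdicComplete (maximalIdeal A) A] (p : ℕ) (hp : 0 < p) (hτ : ∀ r : A, τ (algebraMap A B r) = r ^ p)
  (hστ : ∀ b : B, σ (algebraMap B L b) = algebraMap A K (τ b))
  (hsat : ∀ (y : L) (r : A), σ y = algebraMap A K r → ∃ e : B, τ e = r)

include hp hτ in
theorem exists_pow_le (hht : (maximalIdeal A).height = 2) {D c : A} (hD : D ≠ 0)
    (hc : ∀ P ∈ (Ideal.span {D}).minimalPrimes, c ∉ P) (I : Ideal B)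
    (hI : ∀ q : Ideal B, q.IsPrime → I ≤ q → algebraMap A B D ∈ q ∧ algebraMap A B c ∈ q) :
    ∃ N, (maximalIdeal A).map (algebraMap A B) ^ N ≤ I := by
  haveI : IsNoetherianRing B := IsNoetherianRing.of_finite A B
  refine Ideal.exists_pow_le_of_le_radical_of_fg ?_ (IsNoetherian.noetherian _)
  rw [Ideal.radical_eq_sInf]
  refine le_sInf fun q hq => ?_
  obtain ⟨hIq, hqp⟩ := hq
  haveI := hqp
  obtain ⟨hDq, hcq⟩ := hI q hqp hIq
  rw [Ideal.map_le_iff_le_comap]
  exact (prime_eq_max_of_mem hht hD hc (q.comap (algebraMap A B)) hDq hcq).ge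

include hp hτ hστ hsat in
/-- The obstruction module has finite length. -/
theorem exists_obstruction (hht : (maximalIdeal A).height = 2) {D₀ : A} (hD₀ : D₀ ≠ 0) (π : K →+ K)
    (hfix : ∀ z, π (σ z) = σ z) (hlin : ∀ c x, π (c ^ p * x) = c ^ p * π x)
    (hbd : ∀ r : A, ∃ e : B, algebraMap A K (D₀ ^ p) * π (algebraMap A K r) = algebraMap A K (τ e)) :
    ∃ (d c : A) (n : ℕ) (I : Ideal B) (N : ℕ), (maximalIdeal A).map (algebraMap A B) ^ N ≤ I ∧ d ≠ 0 ∧
      (∀ k, Good (A := A) σ k → ∃ b, Val σ τ d c n k b) ∧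
      ∀ k b, Val σ τ d c n k b → (b ∈ I ↔ ∃ (a : A) (z : L), k = algebraMap A K a + σ z) := by
  classical
  haveI : IsNoetherianRing B := IsNoetherianRing.of_finite A B
  have hι : Function.Injective (algebraMap A K) := IsFractionRing.injective A K
  have hmne : maximalIdeal A ≠ ⊥ := fun h => by
    rw [h, Ideal.height_eq_zero_iff_eq_bot.2 rfl] at hht
    exact absurd hht (by decide)
  obtain ⟨m₀, hm₀, hm₀0⟩ := Submodule.exists_mem_ne_zero_of_ne_bot hmne
  set D := D₀ * m₀ with hDdef
  have hD : D ≠ 0 := mul_ne_zero hD₀ hm₀0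
  have hDm : D ∈ maximalIdeal A := Ideal.mul_mem_left _ _ hm₀
  have hbdD : ∀ r : A, ∃ e : B, algebraMap A K (D ^ p) * π (algebraMap A K r) = algebraMap A K (τ e) := fun r => by
    obtain ⟨e, he⟩ := hbd r
    exact ⟨algebraMap A B m₀ * e, by rw [hDdef, mul_pow, map_mul, map_mul τ, hτ, map_mul, ← he]; ring⟩
  -- an element avoiding the primes over the denominator
  obtain ⟨c₀, hc₀m, hc₀⟩ : ∃ c₀ ∈ maximalIdeal A, ∀ P ∈ (Ideal.span {D}).minimalPrimes, c₀ ∉ P := by
    by_contra h
    push Not at h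
    have hfin := Ideal.finite_minimalPrimes_of_isNoetherianRing A (Ideal.span {D})
    have hsub : (maximalIdeal A : Set A) ⊆ ⋃ P ∈ (hfin.toFinset : Set (Ideal A)), (P : Set A) := fun x hx => by
      obtain ⟨P, hP, hxP⟩ := h x hx
      exact Set.mem_biUnion (hfin.mem_toFinset.2 hP) hxP
    obtain ⟨P, hP, hle⟩ := (Ideal.subset_union_prime (f := fun P => P) (maximalIdeal A) (maximalIdeal A)
      fun P hP _ _ => (hfin.mem_toFinset.1 hP).1.1).1 hsub
    have hP' := hfin.mem_toFinset.1 hP
    haveI := hP'.1.1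
    have h1 := Ideal.height_le_one_of_isPrincipal_of_mem_minimalPrimes _ _ hP'
    have h2 := Ideal.height_mono hle
    rw [hht] at h2
    exact absurd (h2.trans h1) (by decide)
  set d := D ^ p with hddef
  set c := c₀ ^ p with hcdef
  have hd : d ≠ 0 := pow_ne_zero _ hD
  have hτD : τ (algebraMap A B D) = d := hτ D
  have hτc : τ (algebraMap A B c₀) = c := hτ c₀
  have hminp : ∀ P ∈ (Ideal.span {d}).minimalPrimes, c ∉ P := fun P hP hcP => by
    haveI := hP.1.1
    have hDP : D ∈ P := hP.1.1.mem_of_pow_mem p (hP.1.2 (Ideal.subset_span rfl))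
    obtain ⟨Q, hQ, hQle⟩ := Ideal.exists_minimalPrimes_le (J := P) ((Ideal.span_singleton_le_iff_mem _).2 hDP)
    have hPQ : P ≤ Q := hP.2 ⟨hQ.1.1, (Ideal.span_singleton_le_iff_mem _).2
      (Ideal.pow_mem_of_mem _ (hQ.1.2 (Ideal.subset_span rfl)) p hp)⟩ hQle
    exact hc₀ Q hQ (hPQ (hP.1.1.mem_of_pow_mem p hcP))
  set J : Ideal B := (Ideal.span {d}).comap τ with hJ
  set γ := algebraMap A B c₀ with hγ
  -- primes containing the two elements
  have hqmax : ∀ q : Ideal B, q.IsPrime → J ≤ q → γ ∈ q → algebraMap A B D ∈ q ∧ algebraMap A B c₀ ∈ q :=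
    fun q _ hJq hq => ⟨hJq (show τ _ ∈ Ideal.span {d} by rw [hτD]; exact Ideal.subset_span rfl), hq⟩
  -- divisibility by powers descends
  have hchev : ∃ n₀ : ℕ, ∀ n, n₀ ≤ n → ∀ b α, d ∣ c ^ n * α - τ b → ∃ e, b - γ * e ∈ J := by
    let F : ℕ → Submodule A (B ⧸ J) := fun n =>
      (((Ideal.span {c ^ n, d}).comap τ).restrictScalars A).map
        (Ideal.Quotient.mkₐ A J).toLinearMap
    have hF : ∀ n b, Ideal.Quotient.mk J b ∈ F n ↔ τ b ∈ Ideal.span {c ^ n, d} := fun n b => by
      constructor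
      · rintro ⟨b', hb', he⟩
        have h2 : b - b' ∈ J := Ideal.Quotient.eq.1 he.symm
        have h3 : τ (b - b') ∈ Ideal.span {c ^ n, d} :=
          Ideal.span_mono (Set.singleton_subset_iff.2 (by simp)) h2
        rw [map_sub] at h3
        simpa using add_mem h3 hb'
      · exact fun h => ⟨b, h, rfl⟩
    have hanti : Antitone F := fun m n hmn => by
      rintro _ ⟨b, hb, rfl⟩
      refine ⟨b, ?_, rfl⟩
      change τ b ∈ Ideal.span {c ^ m, d}
      change τ b ∈ Ideal.span {c ^ n, d} at hb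
      refine Ideal.span_le.2 ?_ hb
      rintro x (rfl | rfl)
      · exact Ideal.mem_of_dvd _ (pow_dvd_pow c hmn) (Ideal.subset_span (by simp))
      · exact Ideal.subset_span (by simp)
    have hbot : ∀ x, (∀ n, x ∈ F n) → x = 0 := fun x hx => by
      obtain ⟨b, rfl⟩ := Ideal.Quotient.mk_surjective x
      rw [Ideal.Quotient.eq_zero_iff_mem]
      show τ b ∈ Ideal.span {d}
      refine LunaFT.mem_of_forall_mem_sup (R := A) (M := A) (Ideal.span {d}) fun n => ?_
      refine Ideal.span_le.2 ?_ ((hF n b).1 (hx n))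
      rintro x (rfl | rfl)
      · refine Submodule.mem_sup_right ?_
        rw [Ideal.smul_top_eq_map, Algebra.algebraMap_self, Ideal.map_id]
        exact Ideal.pow_mem_pow (Ideal.pow_mem_of_mem _ hc₀m p hp) n
      · exact Submodule.mem_sup_left (Ideal.subset_span rfl)
    haveI : Module.Finite A (B ⧸ J) := Module.Finite.of_surjective (Ideal.Quotient.mkₐ A J).toLinearMap
      Ideal.Quotient.mk_surjective
    obtain ⟨N, hN⟩ := exists_pow_le τ p hp hτ hht hD hc₀ (J ⊔ Ideal.span {γ}) fun q hq hle =>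
      hqmax q hq (le_sup_left.trans hle) (hle (Submodule.mem_sup_right (Ideal.subset_span rfl)))
    obtain ⟨n₀, hn₀⟩ := LunaFT.chevalley F hanti hbot N
    refine ⟨n₀, fun n hn b α hdvd => ?_⟩
    have hb : τ b ∈ Ideal.span {c ^ n, d} := by
      obtain ⟨a, ha⟩ := hdvd
      exact Ideal.mem_span_pair.2 ⟨α, -a, by linear_combination ha⟩
    have h1 := hn₀ (hanti hn ((hF n b).2 hb))
    rw [Ideal.smul_top_eq_map, Submodule.restrictScalars_mem, IsScalarTower.algebraMap_eq A B (B ⧸ J),
      ← Ideal.map_map, Ideal.map_pow, Ideal.Quotient.algebraMap_eq] at h1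
    have h2 := Ideal.map_mono hN h1
    obtain ⟨w, hw, hwb⟩ := (Ideal.mem_map_iff_of_surjective _ Ideal.Quotient.mk_surjective).1 h2
    obtain ⟨j, hj, g, hg, rfl⟩ := Submodule.mem_sup.1 hw
    obtain ⟨e, rfl⟩ := Ideal.mem_span_singleton'.1 hg
    refine ⟨e, ?_⟩
    have h3 : b - (j + e * γ) ∈ J := Ideal.Quotient.eq.1 hwb.symm
    have := add_mem h3 hj
    convert this using 1
    ring
  obtain ⟨n₀, hn₀⟩ := hchev
  have descend : ∀ n, n₀ ≤ n → ∀ b α, d ∣ c ^ n * α - τ b → ∃ b', d ∣ c ^ n₀ * α - τ b' := by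
    intro n hn
    induction n, hn using Nat.le_induction with
    | base => exact fun b α h => ⟨b, h⟩
    | succ n hn ih =>
      intro b α h
      obtain ⟨e, he⟩ := hn₀ (n + 1) (by omega) b α h
      have he' : d ∣ τ b - c * τ e := by
        rw [← hτc, ← map_mul τ, ← map_sub τ]
        exact Ideal.mem_span_singleton.1 he
      refine ih e α (regular_mod hht hd hminp ?_)
      obtain ⟨x, hx⟩ := h
      obtain ⟨y, hy⟩ := he'
      exact ⟨x + y, by rw [pow_succ] at hx; linear_combination hx + hy⟩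
  have hgood : ∀ k, Good (A := A) σ k → ∃ b, Val σ τ d c n₀ k b := by
    intro k hk
    -- bounded denominators
    obtain ⟨α, hα⟩ : ∃ α : A, ∃ z : L, algebraMap A K d * k = algebraMap A K α + σ z := by
      obtain ⟨u₀, s₀, hs₀, hx⟩ := IsFractionRing.div_surjective (A := A) (algebraMap A K d * (k - π k))
      have hπz : ∃ z, π k = σ z := by
        obtain ⟨u, s, hs, rfl⟩ := IsFractionRing.div_surjective (A := A) k
        have hs' : algebraMap A K s ≠ 0 := (map_ne_zero_iff _ hι).2 (nonZeroDivisors.ne_zero hs)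
        obtain ⟨e, he⟩ := hbdD (u * s ^ (p - 1))
        have h1 : algebraMap A K u / algebraMap A K s =
            (algebraMap A K s)⁻¹ ^ p * algebraMap A K (u * s ^ (p - 1)) := by
          obtain ⟨q, rfl⟩ : ∃ q, p = q + 1 := ⟨p - 1, by omega⟩
          rw [add_tsub_cancel_right, map_mul, map_pow, inv_pow, pow_succ]
          field_simp
        refine ⟨algebraMap B L e / (algebraMap B L (algebraMap A B s) * algebraMap B L (algebraMap A B D)), ?_⟩
        rw [h1, hlin, map_div₀ σ, map_mul σ, hστ, hστ, hστ, hτ, hτ, ← he, map_pow, map_pow]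
        have hD' : algebraMap A K D ≠ 0 := (map_ne_zero_iff _ hι).2 hD
        rw [inv_pow]
        field_simp
      obtain ⟨z, hz⟩ := hπz
      have hdvd : s₀ ∣ u₀ := by
        refine WQ7.dvd_of_height_le_one (nonZeroDivisors.ne_zero hs₀) fun P hP hP1 => ?_
        haveI := hP
        obtain ⟨u, s, hs, w, rfl⟩ := hk P hP1
        obtain ⟨e, he⟩ := hbdD (u * s ^ (p - 1))
        have hs' : algebraMap A K s ≠ 0 := (map_ne_zero_iff _ hι).2 fun h => hs (h ▸ zero_mem P)
        refine ⟨s ^ p, fun h => hs (hP.mem_of_pow_mem p h), ?_⟩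
        refine ⟨d * (u * s ^ (p - 1)) - τ e, hι ?_⟩
        have h1 : algebraMap A K u / algebraMap A K s =
            (algebraMap A K s)⁻¹ ^ p * algebraMap A K (u * s ^ (p - 1)) := by
          obtain ⟨q, rfl⟩ : ∃ q, p = q + 1 := ⟨p - 1, by omega⟩
          rw [add_tsub_cancel_right, map_mul, map_pow, inv_pow, pow_succ]
          field_simp
        rw [map_add π, hfix, add_sub_add_right_eq_sub, h1, hlin] at hx
        have hu₀ : algebraMap A K u₀ = algebraMap A K s₀ * (algebraMap A K d *
            ((algebraMap A K s)⁻¹ ^ p * algebraMap A K (u * s ^ (p - 1)) -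
              (algebraMap A K s)⁻¹ ^ p * π (algebraMap A K (u * s ^ (p - 1))))) := by
          rw [← hx, mul_div_cancel₀ _ ((map_ne_zero_iff _ hι).2 (nonZeroDivisors.ne_zero hs₀))]
        rw [map_mul, hu₀, map_pow, map_mul (algebraMap A K) s₀, map_sub (algebraMap A K), ← he,
          map_mul (algebraMap A K) d, inv_pow]
        field_simp
      obtain ⟨α, rfl⟩ := hdvd
      refine ⟨α, algebraMap B L (algebraMap A B D) * z, ?_⟩
      rw [map_mul σ, hστ, hτD, ← hz]
      rw [map_mul, mul_div_cancel_left₀ _ ((map_ne_zero_iff _ hι).2 (nonZeroDivisors.ne_zero hs₀))] at hx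
      rw [hx]
      ring
    obtain ⟨z, hz⟩ := hα
    -- saturation
    let E : Ideal B :=
      { carrier := {e | ∃ b, d ∣ τ e * α - τ b}
        zero_mem' := ⟨0, by simp⟩
        add_mem' := fun {x y} ⟨b, hb⟩ ⟨b', hb'⟩ => ⟨b + b', by
          rw [map_add, map_add, add_mul, add_sub_add_comm]
          exact dvd_add hb hb'⟩
        smul_mem' := fun r x ⟨b, hb⟩ => ⟨r * b, by
          rw [smul_eq_mul, map_mul, map_mul, mul_assoc, ← mul_sub]
          exact hb.mul_left _⟩ }
    obtain ⟨N, hN⟩ : ∃ N, (maximalIdeal A).map (algebraMap A B) ^ N ≤ E := by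
      refine Ideal.exists_pow_le_of_le_radical_of_fg ?_ (IsNoetherian.noetherian _)
      rw [Ideal.radical_eq_sInf]
      refine le_sInf fun q hq => ?_
      obtain ⟨hEq, hqp⟩ := hq
      haveI := hqp
      rw [Ideal.map_le_iff_le_comap]
      set P := q.comap (algebraMap A B)
      by_contra hne
      have hPne : P ≠ maximalIdeal A := fun h => hne h.ge
      have hDP : D ∈ P := hEq (show ∃ b, _ from ⟨0, by rw [hτD, map_zero, sub_zero]; exact dvd_mul_right d α⟩)
      have hP1 : P.height ≤ 1 := by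
        have hlt : P < maximalIdeal A := lt_of_le_of_ne (le_maximalIdeal (Ideal.IsPrime.ne_top inferInstance)) hPne
        have := Ideal.height_strict_mono_of_isPrime_of_isPrime hlt
        rw [hht] at this
        exact Order.le_of_lt_add_one (this.trans_eq one_add_one_eq_two.symm)
      obtain ⟨u, s, hs, w, hkw⟩ := hk P hP1
      have hs' : algebraMap A K s ≠ 0 := (map_ne_zero_iff _ hι).2 fun h => hs (h ▸ zero_mem P)
      obtain ⟨e, he⟩ := hsat (algebraMap B L (algebraMap A B s) * (algebraMap B L (algebraMap A B D) * w - z))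
        ((s ^ p * α) - d * (u * s ^ (p - 1))) (by
          rw [map_mul σ, map_sub σ, map_mul σ, hστ, hστ, hτ, hτD, map_sub, map_mul, map_mul, map_mul]
          have hw : σ w = k - algebraMap A K u / algebraMap A K s := by rw [hkw]; ring
          rw [hw, show σ z = algebraMap A K d * k - algebraMap A K α by rw [hz]; ring]
          obtain ⟨q, rfl⟩ : ∃ q, p = q + 1 := ⟨p - 1, by omega⟩
          rw [add_tsub_cancel_right]
          simp only [pow_succ, map_mul, map_pow (algebraMap A K)]
          field_simp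
          ring)
      refine hs (show algebraMap A B s ∈ q from hEq ⟨e, ?_⟩)
      rw [hτ, he]
      exact ⟨u * s ^ (p - 1), by ring⟩
    obtain ⟨b, hb⟩ := hN (Ideal.pow_mem_pow (Ideal.mem_map_of_mem _ hc₀m) N)
    rw [map_pow τ, hτc] at hb
    obtain ⟨b', hb'⟩ : ∃ b', d ∣ c ^ (max N n₀) * α - τ b' := by
      refine ⟨γ ^ (max N n₀ - N) * b, ?_⟩
      rw [map_mul τ, map_pow τ, hτc, ← Nat.sub_add_cancel (le_max_left N n₀), pow_add, Nat.add_sub_cancel, mul_assoc,
        ← mul_sub]
      exact hb.mul_left _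
    obtain ⟨b'', a, ha⟩ := descend _ (le_max_right N n₀) b' α hb'
    exact ⟨b'', α, z, hz, a, by linear_combination ha⟩
  obtain ⟨N, hN⟩ := exists_pow_le τ p hp hτ hht hD hc₀ (J ⊔ Ideal.span {γ ^ n₀}) fun q hq hle =>
    hqmax q hq (le_sup_left.trans hle) (hq.mem_of_pow_mem n₀ (hle (Submodule.mem_sup_right (Ideal.subset_span rfl))))
  refine ⟨d, c, n₀, J ⊔ Ideal.span {γ ^ n₀}, N, hN, hd, hgood, fun k b hv => ?_⟩
  obtain ⟨α, z, hz, a, ha⟩ := hv
  have hd' : algebraMap A K d ≠ 0 := (map_ne_zero_iff _ hι).2 hd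
  constructor
  · intro hb
    obtain ⟨j, hj, g, hg, rfl⟩ := Submodule.mem_sup.1 hb
    obtain ⟨e, rfl⟩ := Ideal.mem_span_singleton'.1 hg
    obtain ⟨x, hx⟩ := Ideal.mem_span_singleton.1 (show τ j ∈ Ideal.span {d} from hj)
    have hdvd : d ∣ c ^ n₀ * (α - τ e) := ⟨x + a, by
      rw [map_add τ, map_mul τ, map_pow τ, hτc, hx] at ha
      linear_combination ha⟩
    have key : ∀ m y, d ∣ c ^ m * y → d ∣ y := fun m => by
      induction m with
      | zero => intro y h; rwa [pow_zero, one_mul] at h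
      | succ m ih => exact fun y h => ih y (regular_mod hht hd hminp (by rwa [← mul_assoc, ← pow_succ']))
    obtain ⟨a', ha'⟩ := key n₀ _ hdvd
    refine ⟨a', (algebraMap B L e + z) / algebraMap B L (algebraMap A B D), ?_⟩
    rw [map_div₀ σ, map_add σ, hστ, hστ, hτD]
    have h2 := congrArg (algebraMap A K) ha'
    rw [map_sub, map_mul] at h2
    field_simp
    linear_combination hz + h2
  · rintro ⟨a', w, rfl⟩
    obtain ⟨e, he⟩ := hsat (algebraMap B L (algebraMap A B D) * w - z) (α - d * a') (by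
      rw [map_sub σ, map_mul σ, hστ, hτD, map_sub, map_mul]
      linear_combination hz)
    have hj : b - γ ^ n₀ * e ∈ J := by
      show τ (b - γ ^ n₀ * e) ∈ Ideal.span {d}
      rw [map_sub τ, map_mul τ, map_pow τ, hτc, he, Ideal.mem_span_singleton]
      exact ⟨c ^ n₀ * a' - a, by linear_combination -ha⟩
    rw [← sub_add_cancel b (γ ^ n₀ * e)]
    exact add_mem (Submodule.mem_sup_left hj)
      (Submodule.mem_sup_right (Ideal.mem_span_singleton'.2 ⟨e, by ring⟩))

end Groth.Agent.PInsep
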