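import Mathlib
import Groth.Agent.PInsep.Finite
import Groth.Agent.TraceBound.Model
import Groth.Agent.RatUp.Extend

/-!
# Cohomology of modifications of a purely inseparable extension of degree `p`
-/

set_option autoImplicit false
set_option linter.style.haveILetI false
set_option linter.unusedSectionVars false
set_option backward.isDefEq.respectTransparency false
set_option backward.isDefEq.respectTransparency.types false
set_option maxHeartbeats 800000

universe u

open CategoryTheory CategoryTheory.Limits AlgebraicGeometry TopologicalSpace IsLocalRing Filter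
open scoped Topology
open Groth.Agent.NormSeq (Model locRing)
open Groth.Agent.Sol Groth.Agent.RatUp Groth.Agent.TraceBound

noncomputable section

namespace Groth.Agent.PInsep

variable {R S : CommRingCat.{u}} [IsDomain R] [IsDomain S] [IsLocalRing R] [IsNoetherianRing R]
  [IsIntegrallyClosed R] [Algebra (Spec R).functionField (Spec S).functionField]

local notation "KR" => Scheme.functionField (Spec R)
local notation "KS" => Scheme.functionField (Spec S)
local notation "ι" => algebraMap R (Scheme.functionField (Spec R))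
local notation "ιS" => algebraMap S (Scheme.functionField (Spec S))

variable (σ : (Spec S).functionField →+* (Spec R).functionField) (τ : S →+* R)
  (hστ : ∀ b : S, σ (algebraMap S (Spec S).functionField b) = algebraMap R (Spec R).functionField (τ b))
  (p : ℕ) (hp : 0 < p)
  (hpow : ∀ y : (Spec S).functionField, algebraMap (Spec R).functionField (Spec S).functionField (σ y) = y ^ p)

/-- An element of the base solving the powers of a datum at every valuation ring. -/
def CondK (M : Model (Spec S)) (g : M.Z → (Spec S).functionField) (k : (Spec R).functionField) : Prop :=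
  ∀ V : ValuationSubring (Spec R).functionField, (∀ r, algebraMap R (Spec R).functionField r ∈ V) →
    ∀ w, Ctr M (V.comap σ) w → k - σ (g w) ∈ V

variable {σ τ}
variable {M : Model (Spec S)} {g g' : M.Z → (Spec S).functionField} {k k' : (Spec R).functionField}

include hστ in
theorem comap_mem (V : ValuationSubring KR) (hV : ∀ r, ι r ∈ V) (b : S) : ιS b ∈ V.comap σ := by
  show σ (ιS b) ∈ V
  rw [hστ]
  exact hV _

theorem CondK.add (h : CondK σ M g k) (h' : CondK σ M g' k') : CondK σ M (fun w => g w + g' w) (k + k') :=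
  fun V hV w hw => by
    rw [map_add, add_sub_add_comm]
    exact add_mem (h V hV w hw) (h' V hV w hw)

theorem CondK.neg (h : CondK σ M g k) : CondK σ M (fun w => - g w) (-k) := fun V hV w hw => by
  rw [map_neg, ← neg_sub']
  exact neg_mem (h V hV w hw)

theorem CondK.zero : CondK σ M (fun _ => 0) 0 := fun V _ w _ => by
  rw [map_zero, sub_zero]
  exact zero_mem V

include hστ in
theorem CondK.smul (h : CondK σ M g k) (e : S) : CondK σ M (fun w => ιS e * g w) (ι (τ e) * k) := fun V hV w hw => by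
  rw [map_mul, hστ, ← mul_sub]
  exact mul_mem (hV _) (h V hV w hw)

include hστ in
theorem exists_condK [IsProper M.G] (hrat : RatVal (algebraMap R (Spec R).functionField).range)
    (hg : IsDatum (locRing M) g) : ∃ k, CondK σ M g k := by
  classical
  haveI : IsSeparated M.G := inferInstance
  haveI : CompactSpace M.Z := QuasiCompact.compactSpace_of_compactSpace M.G
  have hloc : ∀ y : M.Z, ∃ U : M.Z.Opens, IsAffineOpen U ∧ y ∈ U ∧ ∀ y' ∈ U, g y - g y' ∈ locRing M y' := fun y => by
    obtain ⟨W, hW, hWo, hyW⟩ := eventually_nhds_iff.1 (hg y)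
    obtain ⟨U, hU, hyU, hle⟩ := exists_isAffineOpen_mem_and_subset (x := y) (U := ⟨W, hWo⟩) hyW
    exact ⟨U, hU, hyU, fun y' hy' => hW y' (hle hy')⟩
  choose U hU hyU hgood using hloc
  obtain ⟨t, ht⟩ := isCompact_univ.elim_finite_subcover (fun y => (U y : Set M.Z)) (fun y => (U y).isOpen)
    fun y _ => Set.mem_iUnion.2 ⟨y, hyU y⟩
  have hgenU : ∀ y, genericPoint M.Z ∈ U y := fun y => generic_mem M (hyU y)
  have hev : ∀ y r, ev M (hgenU y) (BlowUpLib.strHom (A := S) M.G (U y) r) = ιS r := fun y r => by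
    show M.toKHom _ (M.Z.presheaf.germ (U y) _ (hgenU y) _) = _
    rw [RatSing.germ_strHom M (hgenU y), RatSing.toK_strStalk]
  have hft : ∀ y, ∃ s : Finset Γ(M.Z, U y),
      ∀ W : ValuationSubring KS, (∀ b, ιS b ∈ W) →
        (∀ e ∈ s, ev M (hgenU y) e ∈ W) → ∀ e, ev M (hgenU y) e ∈ W := fun y => by
    have hfin : (BlowUpLib.strHom (A := S) M.G (U y)).FiniteType := by
      refine RingHom.FiniteType.comp (f := (Scheme.ΓSpecIso S).inv.hom)
        (M.G.finiteType_appLE (isAffineOpen_top _) (hU y) le_top) ?_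
      exact RingHom.FiniteType.of_surjective _ (ConcreteCategory.bijective_of_isIso (Scheme.ΓSpecIso S).inv).2
    letI := (BlowUpLib.strHom (A := S) M.G (U y)).toAlgebra
    haveI : Algebra.FiniteType S Γ(M.Z, U y) := hfin
    obtain ⟨s, hs⟩ := (Algebra.FiniteType.out : (⊤ : Subalgebra S Γ(M.Z, U y)).FG)
    refine ⟨s, fun W hW he e => ?_⟩
    have hmem : e ∈ Algebra.adjoin S (s : Set Γ(M.Z, U y)) := by rw [hs]; trivial
    induction hmem using Algebra.adjoin_induction with
    | mem x hx => exact he x hx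
    | algebraMap r => exact (hev y r).symm ▸ hW r
    | add x x' _ _ hx hx' => rw [map_add]; exact add_mem hx hx'
    | mul x x' _ _ hx hx' => rw [map_mul]; exact mul_mem hx hx'
  choose s hs using hft
  let pt : Fin t.card → M.Z := fun k => (t.equivFin.symm k).1
  let E : Fin t.card → Finset KR := fun k => ((s (pt k)).image (ev M (hgenU (pt k)))).image σ
  have hE : ∀ (V : ValuationSubring KR) k,
      (∀ e ∈ E k, e ∈ V) ↔ ∀ e ∈ (s (pt k)).image (ev M (hgenU (pt k))), e ∈ V.comap σ :=
    fun V k => Finset.forall_mem_image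
  have hEmem : ∀ V : ValuationSubring KR, (∀ r, ι r ∈ V) → ∀ k,
      (∀ e ∈ E k, e ∈ V) → ∃ y ∈ U (pt k), Ctr M (V.comap σ) y := fun V hV k hk => by
    have hall := hs (pt k) (V.comap σ) (comap_mem hστ V hV) fun e he =>
      (hE V k).1 hk _ (Finset.mem_image_of_mem _ he)
    let i : Γ(M.Z, U (pt k)) ⟶ CommRingCat.of (V.comap σ) :=
      CommRingCat.ofHom ((ev M (hgenU (pt k))).codRestrict (V.comap σ).toSubring hall)
    refine ⟨_, ?_, ctr_of_lift M (V.comap σ) (Spec.map i ≫ (hU (pt k)).fromSpec) ?_⟩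
    · show _ ∈ (U (pt k) : Set M.Z)
      rw [← (hU (pt k)).range_fromSpec]
      exact ⟨_, rfl⟩
    · have hi : i ≫ CommRingCat.ofHom (V.comap σ).subtype =
          M.Z.presheaf.germ (U (pt k)) _ (hgenU (pt k)) ≫ M.toKHom (genericPoint M.Z) := rfl
      rw [← Spec.map_comp_assoc, hi, Spec.map_comp, Category.assoc, ← M.spec_toK (genericPoint M.Z)]
      congr 1
      exact (hU (pt k)).fromSpecStalk_eq_fromSpecStalk (hgenU (pt k))
  have hcover : ∀ y, ∃ k, y ∈ U (pt k) := fun y => by
    obtain ⟨y', hy', hy''⟩ := Set.mem_iUnion₂.1 (ht (Set.mem_univ y))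
    exact ⟨t.equivFin ⟨y', hy'⟩, by simp only [pt, Equiv.symm_apply_apply]; exact hy''⟩
  have hbase : ∀ V : ValuationSubring KR, (algebraMap R (Spec R).functionField).range ≤ V.toSubring →
      ∀ r, ι r ∈ V := fun V hV r => hV ⟨r, rfl⟩
  obtain ⟨h, hh⟩ := hrat t.card E (fun k => σ (g (pt k))) (fun V hV => by
      obtain ⟨y, hy⟩ := exists_ctr M _ (comap_mem hστ V (hbase V hV))
      obtain ⟨k, hk⟩ := hcover y
      refine ⟨k, (hE V k).2 fun e he => hy.1 ?_⟩
      obtain ⟨x, -, rfl⟩ := Finset.mem_image.1 he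
      exact ev_mem M (hgenU (pt k)) hk x) fun V hV k l hk hl => by
      obtain ⟨y, hy, hyc⟩ := hEmem V (hbase V hV) k hk
      obtain ⟨y', hy', hyc'⟩ := hEmem V (hbase V hV) l hl
      obtain rfl := Ctr.unique M hyc hyc'
      have h1 := sub_mem (hgood _ y hy) (hgood _ y hy')
      rw [sub_sub_sub_cancel_right] at h1
      rw [← map_sub]
      exact hyc.1 h1
  refine ⟨h, fun V hV w hw => ?_⟩
  obtain ⟨k, hk⟩ := hcover w
  have h1 := hh V (by rintro _ ⟨r, rfl⟩; exact hV r) k ((hE V k).2 fun e he => hw.1 (by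
    obtain ⟨x, -, rfl⟩ := Finset.mem_image.1 he
    exact ev_mem M (hgenU (pt k)) hk x))
  have h2 : σ (g (pt k)) - σ (g w) ∈ V := by
    rw [← map_sub]
    exact hw.1 (hgood (pt k) w hk)
  rw [← sub_add_sub_cancel h (σ (g (pt k)))]
  exact add_mem h1 h2

include hστ in
theorem CondK.good [IsProper M.G] (h : CondK σ M g k) : Good (A := R) σ k := by
  intro P _ hP
  let V : ValuationSubring KR :=
    { (TraceRat.loc KR P).toSubring with mem_or_inv_mem' := fun x => TraceRat.loc_total KR P hP x }
  have hV : ∀ r, ι r ∈ V := fun r => Subalgebra.algebraMap_mem (TraceRat.loc KR P) r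
  obtain ⟨w, hw⟩ := exists_ctr M _ (comap_mem hστ V hV)
  obtain ⟨u, s, hs, e⟩ := (TraceRat.mem_loc KR).1 (h V hV w hw : k - σ (g w) ∈ TraceRat.loc KR P)
  exact ⟨u, s, hs, g w, by rw [div_eq_mul_inv, ← e]; ring⟩

include hστ in
theorem CondK.of_solvable [IsProper M.G] (h : CondK σ M g k) {k₀ : KS} (hk₀ : ∀ w, k₀ - g w ∈ locRing M w) :
    ∃ (a : R) (z : KS), k = ι a + σ z := by
  obtain ⟨a, ha⟩ := TorBound.mem_range_of_forall (k - σ k₀) fun V hV => by
    obtain ⟨w, hw⟩ := exists_ctr M _ (comap_mem hστ V hV)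
    have h1 : σ (k₀ - g w) ∈ V := hw.1 (hk₀ w)
    rw [map_sub] at h1
    have h2 := sub_mem (h V hV w hw) h1
    rwa [sub_sub_sub_cancel_right] at h2
  exact ⟨a, k₀, by rw [ha]; ring⟩

include hστ hp hpow in
theorem CondK.solvable [Algebra R S] (hτ : ∀ r : R, τ (algebraMap R S r) = r ^ p) [IsProper M.G]
    (hMn : Pi1.IsNormalScheme M.Z) (hg : IsDatum (locRing M) g)
    {a : R} {z : KS} (h : CondK σ M g (ι a + σ z)) (w : M.Z) : z - g w ∈ locRing M w := by
  refine mem_locRing_of_forall M w (hMn w).2 _ fun W hW => ?_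
  obtain ⟨w', hw', hw'W⟩ := exists_ctr_specializes M W hW
  set V := W.comap (algebraMap KR KS) with hVdef
  have hVW : V.comap σ = W := by
    ext x
    show algebraMap KR KS (σ x) ∈ W ↔ x ∈ W
    rw [hpow]
    exact ⟨fun h => TorBound.mem_of_pow_mem W hp.ne' h, fun h => pow_mem h p⟩
  have hV : ∀ r, ι r ∈ V := fun r => by
    refine TorBound.mem_of_pow_mem W hp.ne' ?_
    rw [← map_pow (algebraMap KR KS), ← map_pow (algebraMap R KR), ← hτ, ← hστ, hpow]
    exact pow_mem (hw'W.map_mem _) p
  have h1 : σ (z - g w') ∈ V := by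
    have h2 := sub_mem (h V hV w' (hVW.symm ▸ hw'W)) (hV a)
    rwa [map_sub, show σ z - σ (g w') = ι a + σ z - σ (g w') - ι a by ring]
  have h3 : z - g w' ∈ W := hVW ▸ h1
  obtain ⟨U, hU, hUo, hwU⟩ := eventually_nhds_iff.1 (hg w)
  have h4 := sub_mem h3 (hw'W.1 (hU w' (hw'.mem_open hUo hwU)))
  rwa [sub_sub_sub_cancel_right] at h4

end Groth.Agent.PInsep
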