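import Mathlib
import Groth.Agent.S9444

/-!
# Roots of coordinates on power series rings in positive characteristic
-/

set_option autoImplicit false
set_option linter.style.haveILetI false
set_option linter.unusedSectionVars false

universe u

open Finset

noncomputable section

namespace Groth.Agent.PInsep

/-- A field of positive characteristic has enough `p`-inverse-linear functionals. -/
theorem exists_field_funct (k : Type u) [Field k] (p : ℕ) [Fact p.Prime] [CharP k p] {x : k} (hx : x ≠ 0) :
    ∃ ℓ : k →+ k, (∀ c y, ℓ (c ^ p * y) = c * ℓ y) ∧ ℓ x ≠ 0 := by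
  let E : Subfield k := (frobenius k p).fieldRange
  obtain ⟨f, hf⟩ : ∃ f : k →ₗ[E] E, f x ≠ 0 := by
    by_contra h
    push Not at h
    exact hx ((Module.forall_dual_apply_eq_zero_iff E x).1 h)
  let e : k ≃+* E := RingEquiv.ofBijective (frobenius k p).rangeRestrictField
    ⟨(frobenius k p).rangeRestrictField.injective, fun ⟨_, c, hc⟩ => ⟨c, Subtype.ext hc⟩⟩
  refine ⟨e.symm.toAddMonoidHom.comp f.toAddMonoidHom, fun c y => ?_, ?_⟩
  · show e.symm (f (c ^ p * y)) = c * e.symm (f y)
    rw [show c ^ p * y = (e c) • y from rfl, map_smul, smul_eq_mul, map_mul, e.symm_apply_apply]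
  · exact (map_ne_zero_iff _ e.symm.injective).2 hf

theorem exists_powerSeries_funct (k : Type u) [Field k] {d : ℕ} (p : ℕ) [Fact p.Prime] [CharP k p]
    {f : MvPowerSeries (Fin d) k} (hf : f ≠ 0) :
    ∃ ψ : MvPowerSeries (Fin d) k →+ MvPowerSeries (Fin d) k,
      (∀ g x, ψ (g ^ p * x) = g * ψ x) ∧ ψ f ≠ 0 := by
  classical
  have hp : p ≠ 0 := (Fact.out : p.Prime).ne_zero
  obtain ⟨n₀, hn₀⟩ : ∃ n, MvPowerSeries.coeff n f ≠ 0 := by
    by_contra h
    push Not at h
    exact hf (MvPowerSeries.ext fun n => by rw [h n, map_zero])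
  let r : Fin d →₀ ℕ := n₀.mapRange (· % p) (Nat.zero_mod p)
  let q₀ : Fin d →₀ ℕ := n₀.mapRange (· / p) (Nat.zero_div p)
  have hr : ∀ i, r i < p := fun i => by
    simp only [r, Finsupp.mapRange_apply]
    exact Nat.mod_lt _ (Nat.pos_of_ne_zero hp)
  have hn : n₀ = p • q₀ + r := Finsupp.ext fun i => by
    simp only [r, q₀, Finsupp.add_apply, Finsupp.smul_apply, Finsupp.mapRange_apply, smul_eq_mul]
    exact (Nat.div_add_mod (n₀ i) p).symm
  obtain ⟨ℓ, hℓ, hℓ0⟩ := exists_field_funct k p hn₀
  refine ⟨AddMonoidHom.mk' (fun x n => ℓ (MvPowerSeries.coeff (p • n + r) x)) (fun x y => funext fun n => ?_),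
    fun g x => ?_, fun h => ?_⟩
  · show ℓ (MvPowerSeries.coeff (p • n + r) (x + y)) = _
    rw [map_add, map_add]
    rfl
  · refine MvPowerSeries.ext fun n => ?_
    show ℓ (MvPowerSeries.coeff (p • n + r) (g ^ p * x)) = MvPowerSeries.coeff n (g * _)
    haveI : ExpChar k p := ExpChar.prime Fact.out
    rw [← MvPowerSeries.map_frobenius_expand p hp, MvPowerSeries.coeff_mul, MvPowerSeries.coeff_mul, map_sum]
    symm
    refine Finset.sum_bij_ne_zero (fun uv _ _ => (p • uv.1, p • uv.2 + r)) (fun uv huv _ => ?_)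
      (fun uv _ _ uv' _ _ h => ?_) (fun ab hab hne => ?_) (fun uv _ _ => ?_)
    · rw [Finset.HasAntidiagonal.mem_antidiagonal] at huv ⊢
      rw [← add_assoc, ← smul_add, huv]
    · simp only [Prod.mk.injEq, add_left_inj] at h
      exact Prod.ext (Finsupp.ext fun i => Nat.eq_of_mul_eq_mul_left (Nat.pos_of_ne_zero hp)
          (by simpa using DFunLike.congr_fun h.1 i))
        (Finsupp.ext fun i => Nat.eq_of_mul_eq_mul_left (Nat.pos_of_ne_zero hp)
          (by simpa using DFunLike.congr_fun h.2 i))
    · rw [Finset.HasAntidiagonal.mem_antidiagonal] at hab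
      have hdvd : ∀ i, p ∣ ab.1 i := fun i => by
        by_contra hnd
        refine hne ?_
        rw [MvPowerSeries.coeff_map, MvPowerSeries.coeff_expand_of_not_dvd p hp _ hnd, map_zero, zero_mul, map_zero]
      let u : Fin d →₀ ℕ := ab.1.mapRange (· / p) (Nat.zero_div p)
      have hu : p • u = ab.1 := Finsupp.ext fun i => by
        simp only [u, Finsupp.smul_apply, Finsupp.mapRange_apply, smul_eq_mul]
        exact Nat.mul_div_cancel' (hdvd i)
      have hi : ∀ i, ab.1 i + ab.2 i = p * n i + r i := fun i => by simpa using DFunLike.congr_fun hab i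
      have hle : ∀ i, u i ≤ n i := fun i => by
        have h1 : p * u i = ab.1 i := by simpa using DFunLike.congr_fun hu i
        by_contra hlt
        have h2 := Nat.mul_le_mul_left p (not_le.1 hlt)
        have h3 := hi i
        have h4 := hr i
        rw [Nat.mul_succ] at h2
        omega
      have hv : p • (n - u) + r = ab.2 := Finsupp.ext fun i => by
        simp only [Finsupp.add_apply, Finsupp.smul_apply, Finsupp.tsub_apply, smul_eq_mul, Nat.mul_sub]
        have h1 : p * u i = ab.1 i := by simpa using DFunLike.congr_fun hu i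
        have h2 := Nat.mul_le_mul_left p (hle i)
        have h3 := hi i
        omega
      refine ⟨(u, n - u), ?_, fun h0 => hne ?_, Prod.ext hu hv⟩
      · rw [Finset.HasAntidiagonal.mem_antidiagonal]
        exact add_tsub_cancel_of_le (Finsupp.le_def.2 hle)
      · rw [← hu, MvPowerSeries.coeff_map, MvPowerSeries.coeff_expand_smul, frobenius_def, hℓ, ← hv]
        exact h0
    · rw [MvPowerSeries.coeff_map, MvPowerSeries.coeff_expand_smul, frobenius_def, hℓ]
      rfl
  · refine hℓ0 ?_
    have h1 := congrArg (MvPowerSeries.coeff q₀) h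
    rw [map_zero] at h1
    rw [hn]
    exact h1

/-- A complete regular local ring of positive characteristic has enough `p`-inverse-linear functionals. -/
theorem exists_funct (p : ℕ) [Fact p.Prime] (A : Type u) [CommRing A] [IsRegularLocalRing A] [CharP A p]
    [IsAdicComplete (IsLocalRing.maximalIdeal A) A] {x : A} (hx : x ≠ 0) :
    ∃ ψ : A →+ A, (∀ g y, ψ (g ^ p * y) = g * ψ y) ∧ ψ x ≠ 0 := by
  let P := ULift.{u} (ZMod p)
  letI : Algebra P A := ((ZMod.castHom dvd_rfl A).comp (ULift.ringEquiv (R := ZMod p)).toRingHom).toAlgebra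
  obtain ⟨d, ⟨e⟩⟩ := S9444.result A P
  haveI : CharP (IsLocalRing.ResidueField A) p :=
    (CharP.charP_iff_prime_eq_zero (R := IsLocalRing.ResidueField A) Fact.out).2
      (by rw [← map_natCast (IsLocalRing.residue A), CharP.cast_eq_zero, map_zero])
  obtain ⟨ψ, hψ, hψ0⟩ := exists_powerSeries_funct (IsLocalRing.ResidueField A) p
    ((map_ne_zero_iff _ e.injective).2 hx)
  refine ⟨(e.symm.toAddMonoidHom.comp ψ).comp e.toAddMonoidHom, fun g y => ?_, ?_⟩
  · show e.symm (ψ (e (g ^ p * y))) = g * e.symm (ψ (e y))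
    rw [map_mul, map_pow, hψ, map_mul, e.symm_apply_apply]
  · exact (map_ne_zero_iff _ e.symm.injective).2 hψ0

end Groth.Agent.PInsep
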