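import Mathlib
import Groth.Agent.PInsep.Bound

/-!
# Bounded length of the first cohomology of modifications, purely inseparable case
-/

set_option autoImplicit false
set_option linter.style.haveILetI false
set_option linter.unusedSectionVars false
set_option backward.isDefEq.respectTransparency false
set_option backward.isDefEq.respectTransparency.types false
set_option maxHeartbeats 800000

universe u

open CategoryTheory CategoryTheory.Limits AlgebraicGeometry TopologicalSpace IsLocalRing
open Groth.Agent.NormSeq (Model locRing)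
open Groth.Agent.Sol Groth.Agent.RatUp Groth.Agent.TraceBound

noncomputable section

namespace Groth.Agent.PInsep

/-- Quotients by ideals containing a power of the extended maximal ideal have finite length. -/
theorem length_quotient_ne_top (R S : Type u) [CommRing R] [CommRing S] [IsLocalRing R] [IsNoetherianRing R]
    [Algebra R S] [Module.Finite R S] (I : Ideal S) (N : ℕ) (hN : (maximalIdeal R).map (algebraMap R S) ^ N ≤ I) :
    Module.length S (S ⧸ I) ≠ ⊤ := by
  haveI : IsNoetherianRing S := IsNoetherianRing.of_finite R S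
  haveI : IsArtinianRing (S ⧸ I) := by
    rw [isArtinianRing_iff_krullDimLE_zero]
    refine Ring.KrullDimLE.mk₀ fun q hq => ?_
    haveI := hq
    set Q := q.comap (Ideal.Quotient.mk I)
    have hIQ : I ≤ Q := fun x hx => by
      show Ideal.Quotient.mk I x ∈ q
      rw [Ideal.Quotient.eq_zero_iff_mem.2 hx]
      exact zero_mem q
    haveI : Q.IsPrime := Ideal.IsPrime.comap _
    have h1 : (maximalIdeal R).map (algebraMap R S) ≤ Q := Ideal.IsPrime.le_of_pow_le (hN.trans hIQ)
    have h2 : Q.comap (algebraMap R S) = maximalIdeal R :=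
      le_antisymm (le_maximalIdeal (Ideal.IsPrime.ne_top inferInstance)) (Ideal.map_le_iff_le_comap.1 h1)
    haveI : Q.IsMaximal := Ideal.isMaximal_of_isIntegral_of_isMaximal_comap Q (by rw [h2]; infer_instance)
    rw [← Ideal.map_comap_of_surjective _ Ideal.Quotient.mk_surjective q]
    exact (Ideal.map_eq_top_or_isMaximal_of_surjective _ Ideal.Quotient.mk_surjective ‹Q.IsMaximal›).resolve_left
      fun h => hq.ne_top ((Ideal.map_comap_of_surjective _ Ideal.Quotient.mk_surjective q).symm.trans h)
  haveI : IsArtinian S (S ⧸ I) := isArtinian_of_surjective_algebraMap (Ideal.Quotient.mk_surjective (I := I))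
  exact Module.length_ne_top_iff.2 (isFiniteLength_iff_isNoetherian_isArtinian.2 ⟨inferInstance, inferInstance⟩)

variable {R S : CommRingCat.{u}} [IsDomain R] [IsDomain S] [IsLocalRing R] [IsNoetherianRing R]
  [IsIntegrallyClosed R] [Algebra R S] [Module.Finite R S]
  [Algebra (Spec R).functionField (Spec S).functionField]

local notation "KR" => Scheme.functionField (Spec R)
local notation "KS" => Scheme.functionField (Spec S)
local notation "ι" => algebraMap R (Scheme.functionField (Spec R))
local notation "ιS" => algebraMap S (Scheme.functionField (Spec S))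

variable (σ : (Spec S).functionField →+* (Spec R).functionField) (τ : S →+* R)
  (hστ : ∀ b : S, σ (algebraMap S (Spec S).functionField b) = algebraMap R (Spec R).functionField (τ b))
  (p : ℕ) (hp : 0 < p) (hτ : ∀ r : R, τ (algebraMap R S r) = r ^ p)
  (hpow : ∀ y : (Spec S).functionField, algebraMap (Spec R).functionField (Spec S).functionField (σ y) = y ^ p)

/-- The class upstairs and the obstruction of one datum. -/
def RelB (M : Model (Spec S)) (d c : R) (n : ℕ) (z : Coh.HH M.Z (Coh.structureModule M.Z) 1) (b : S) : Prop :=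
  ∃ g k, IsClsM M g z ∧ CondK σ M g k ∧ Val σ τ d c n k b

variable {σ τ}
variable {M : Model (Spec S)} {d c : R} {n : ℕ}

theorem RelB.add {z z' : Coh.HH M.Z (Coh.structureModule M.Z) 1} {b b' : S} (h : RelB σ τ M d c n z b)
    (h' : RelB σ τ M d c n z' b') : RelB σ τ M d c n (z + z') (b + b') := by
  obtain ⟨g, k, hg, hk, α, x, hx, a, ha⟩ := h
  obtain ⟨g', k', hg', hk', α', x', hx', a', ha'⟩ := h'
  refine ⟨_, _, hg.add hg', hk.add hk', α + α', x + x', ?_, a + a', ?_⟩
  · rw [mul_add, hx, hx', map_add, map_add]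
    ring
  · rw [mul_add, ha, ha', map_add]
    ring

include hστ in
theorem RelB.smul (e : S) {z : Coh.HH M.Z (Coh.structureModule M.Z) 1} {b : S} (h : RelB σ τ M d c n z b) :
    letI := QCoh.modHH (Coh.toGlobal M.G) (Coh.structureModule M.Z) 1
    RelB σ τ M d c n (e • z) (e * b) := by
  obtain ⟨g, k, hg, hk, α, x, hx, a, ha⟩ := h
  refine ⟨_, _, hg.smul _ e (ιS e) (TorBound.scal_eq M e), hk.smul hστ e, τ e * α, ιS e * x, ?_, τ e * a, ?_⟩
  · rw [mul_left_comm, hx, map_mul, map_mul, hστ]
    ring
  · rw [mul_left_comm, ha, map_mul]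
    ring

include hστ hp hτ hpow in
/-- The first cohomology embeds in the obstruction module. -/
theorem length_le [IsProper M.G] (hMn : Pi1.IsNormalScheme M.Z)
    (hrat : RatVal (algebraMap R (Spec R).functionField).range)
    (hgood : ∀ k, Good (A := R) σ k → ∃ b, Val σ τ d c n k b) (I : Ideal S)
    (hval : ∀ k b, Val σ τ d c n k b → (b ∈ I ↔ ∃ (a : R) (z : KS), k = ι a + σ z)) :
    letI := QCoh.modHH (Coh.toGlobal M.G) (Coh.structureModule M.Z) 1
    Module.length S (Coh.HH M.Z (Coh.structureModule M.Z) 1) ≤ Module.length S (S ⧸ I) := by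
  let := QCoh.modHH (Coh.toGlobal M.G) (Coh.structureModule M.Z) 1
  have hex : ∀ z, ∃ b, RelB σ τ M d c n z b := fun z => by
    obtain ⟨g, hg⟩ := exists_isClsM (N := M) z
    obtain ⟨k, hk⟩ := exists_condK hστ hrat hg.datum
    obtain ⟨b, hb⟩ := hgood k (hk.good hστ)
    exact ⟨b, g, k, hg, hk, hb⟩
  have hzero : ∀ b, RelB σ τ M d c n 0 b → b ∈ I := fun b hb => by
    obtain ⟨g, k, hg, hk, hv⟩ := hb
    obtain ⟨k₀, hk₀⟩ := hg.eq_zero_iff.1 rfl
    exact (hval k b hv).2 (hk.of_solvable hστ hk₀)
  choose v hv using hex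
  have huniq : ∀ z b, RelB σ τ M d c n z b → Ideal.Quotient.mk I (v z) = Ideal.Quotient.mk I b := fun z b hb => by
    have h := (hv z).add (hb.smul hστ (-1))
    rw [neg_one_smul, add_neg_cancel, neg_one_mul, ← sub_eq_add_neg] at h
    exact Ideal.Quotient.eq.2 (hzero _ h)
  let Φ : Coh.HH M.Z (Coh.structureModule M.Z) 1 →ₗ[S] S ⧸ I :=
    { toFun := fun z => Ideal.Quotient.mk I (v z)
      map_add' := fun x y => by rw [huniq _ _ ((hv x).add (hv y)), map_add]
      map_smul' := fun e x => by
        rw [huniq _ _ ((hv x).smul hστ e), map_mul]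
        rfl }
  refine Module.length_le_of_injective Φ ((injective_iff_map_eq_zero Φ).2 fun z hz => ?_)
  obtain ⟨g, k, hg, hk, hval'⟩ := hv z
  obtain ⟨a, x, rfl⟩ := (hval k _ hval').1 (Ideal.Quotient.eq_zero_iff_mem.1 hz)
  exact hg.eq_zero_iff.2 ⟨x, fun w => hk.solvable hστ p hp hpow hτ hMn hg.datum w⟩

end Groth.Agent.PInsep
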